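import Mathlib

/-! Substitution automorphisms of multivariate power series rings; cube roots. -/

set_option autoImplicit false

namespace Groth.Agent.PSAutoH28

open MvPowerSeries
open Finsupp (degree single)

variable {σ : Type*} {R : Type*} [CommRing R]

lemma le_order_sub {f g : MvPowerSeries σ R} {n : ℕ∞} (hf : n ≤ f.order) (hg : n ≤ g.order) :
    n ≤ (f - g).order := by
  rw [sub_eq_add_neg]
  exact (le_min hf (hg.trans_eq (order_neg g).symm)).trans min_order_le_add

lemma le_order_sum' {f g : MvPowerSeries σ R} {n : ℕ∞} (hf : n ≤ f.order) (hg : n ≤ g.order) :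
    n ≤ (f + g).order := (le_min hf hg).trans min_order_le_add

lemma close_mul {f f' g g' : MvPowerSeries σ R} {p q : ℕ}
    (hf : (p : ℕ∞) ≤ f.order) (hf' : (p : ℕ∞) ≤ f'.order) (hff : (p : ℕ∞) + 1 ≤ (f - f').order)
    (hg : (q : ℕ∞) ≤ g.order) (hg' : (q : ℕ∞) ≤ g'.order) (hgg : (q : ℕ∞) + 1 ≤ (g - g').order) :
    ((p + q : ℕ) : ℕ∞) + 1 ≤ (f * g - f' * g').order := by
  have e : f * g - f' * g' = (f - f') * g + f' * (g - g') := by ring
  rw [e, Nat.cast_add]
  refine le_order_sum' ?_ ?_
  · refine le_trans ?_ le_order_mul
    rw [add_right_comm]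
    exact add_le_add hff hg
  · refine le_trans ?_ le_order_mul
    rw [add_assoc]
    exact add_le_add hf' hgg

/-- `a` is tangent to the identity. -/
def Tangent (a : σ → MvPowerSeries σ R) : Prop := ∀ i, (2 : ℕ∞) ≤ (a i - X i).order

lemma one_le_order_X (i : σ) : (1 : ℕ∞) ≤ (X i : MvPowerSeries σ R).order :=
  one_le_order_iff_constCoeff_eq_zero.2 (constantCoeff_X i)

variable {a : σ → MvPowerSeries σ R} (ha : Tangent a)
include ha

lemma Tangent.one_le (i : σ) : (1 : ℕ∞) ≤ (a i).order := by
  have := le_order_sum' ((show (1 : ℕ∞) ≤ 2 by norm_num).trans (ha i)) (one_le_order_X (R := R) i)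
  rwa [sub_add_cancel] at this

lemma Tangent.constantCoeff_eq (i : σ) : constantCoeff (a i) = 0 :=
  one_le_order_iff_constCoeff_eq_zero.1 (ha.one_le i)

lemma Tangent.hasSubst [Finite σ] : HasSubst a :=
  hasSubst_of_constantCoeff_zero ha.constantCoeff_eq

lemma prod_close (d : σ →₀ ℕ) :
    ((degree d : ℕ) : ℕ∞) ≤ (d.prod fun s e => a s ^ e).order ∧
    ((degree d : ℕ) : ℕ∞) + 1 ≤ ((d.prod fun s e => a s ^ e) - monomial d 1).order := by
  classical
  have hmono : ∀ d : σ →₀ ℕ, ((degree d : ℕ) : ℕ∞) ≤ (monomial d (1 : R) : MvPowerSeries σ R).order := by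
    intro d
    refine le_order fun e he => ?_
    rw [coeff_monomial, if_neg]
    rintro rfl
    exact lt_irrefl _ he
  induction d using Finsupp.induction_linear with
  | zero => simp [monomial_zero_eq_C, show order (0 : MvPowerSeries σ R) = ⊤ from order_zero]
  | add f g hf hg =>
    rw [Finsupp.prod_add_index' (fun _ => pow_zero _) (fun _ _ _ => pow_add _ _ _),
      ← one_mul (1 : R), ← monomial_mul_monomial, map_add]
    refine ⟨?_, close_mul hf.1 (hmono f) hf.2 hg.1 (hmono g) hg.2⟩
    rw [Nat.cast_add]
    exact (add_le_add hf.1 hg.1).trans le_order_mul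
  | single i n =>
    rw [Finsupp.prod_single_index (h := fun s e => a s ^ e) (pow_zero _), Finsupp.degree_single]
    induction n with
    | zero => simp [monomial_zero_eq_C, show order (0 : MvPowerSeries σ R) = ⊤ from order_zero]
    | succ n ih =>
      have hm : (monomial (single i (n + 1)) (1 : R)) = monomial (single i n) 1 * X i := by
        rw [X_def, monomial_mul_monomial, one_mul, Finsupp.single_add]
      rw [pow_succ, hm, Nat.cast_add, Nat.cast_one]
      refine ⟨(add_le_add ih.1 (ha.one_le i)).trans le_order_mul, ?_⟩
      have := close_mul (p := n) (q := 1) ih.1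
        (by simpa using hmono (single i n)) ih.2 (by simpa using ha.one_le i)
        (by simpa using one_le_order_X (R := R) i) (by simpa [one_add_one_eq_two] using ha i)
      simpa using this

variable [Finite σ]

lemma subst_close {h : MvPowerSeries σ R} {n : ℕ} (hh : (n : ℕ∞) ≤ h.order) :
    ((n + 1 : ℕ) : ℕ∞) ≤ (subst a h - h).order := by
  classical
  refine le_order fun e he => ?_
  have he' : degree e ≤ n := by
    have : degree e < n + 1 := by exact_mod_cast he
    omega
  rw [map_sub, coeff_subst ha.hasSubst]
  have hterm : ∀ d, coeff d h • coeff e (d.prod fun s e => a s ^ e) =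
      if d = e then coeff e h else 0 := by
    intro d
    by_cases hd : degree d < n
    · rw [coeff_of_lt_order (lt_of_lt_of_le (by exact_mod_cast hd) hh), zero_smul]
      split_ifs with hde
      · subst hde
        rw [coeff_of_lt_order (lt_of_lt_of_le (by exact_mod_cast hd) hh)]
      · rfl
    · have h2 : coeff e ((d.prod fun s e => a s ^ e) - monomial d 1) = 0 :=
        coeff_of_lt_order (lt_of_lt_of_le
          (by exact_mod_cast (show degree e < degree d + 1 by omega)) (prod_close ha d).2)
      rw [map_sub, sub_eq_zero] at h2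
      rw [h2, coeff_monomial]
      by_cases hde : e = d
      · subst hde; simp
      · rw [if_neg hde, if_neg (Ne.symm hde), smul_zero]
  rw [finsum_congr hterm, finsum_eq_single _ e (fun d hd => if_neg hd), if_pos rfl, sub_self]

lemma subst_bijective : Function.Bijective (subst a : MvPowerSeries σ R → MvPowerSeries σ R) := by
  classical
  constructor
  · intro f g hfg
    rw [← sub_eq_zero]
    have h0 : subst a (f - g) = 0 := by
      rw [← substAlgHom_apply ha.hasSubst, map_sub, substAlgHom_apply, substAlgHom_apply, hfg, sub_self]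
    have hall : ∀ n : ℕ, (n : ℕ∞) ≤ (f - g).order := by
      intro n
      induction n with
      | zero => simp
      | succ n ih =>
        have := subst_close ha ih
        rwa [h0, zero_sub, order_neg] at this
    ext d
    rw [coeff_of_lt_order (lt_of_lt_of_le (by exact_mod_cast Nat.lt_succ_self _) (hall _)), map_zero]
  · intro g
    let step : MvPowerSeries σ R → MvPowerSeries σ R := fun f => f + (g - subst a f)
    let F : ℕ → MvPowerSeries σ R := fun n => step^[n] 0
    have hFs : ∀ n, F (n + 1) = F n + (g - subst a (F n)) := fun n =>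
      Function.iterate_succ_apply' step n 0
    have hsub : ∀ p q : MvPowerSeries σ R, subst a (p - q) = subst a p - subst a q := fun p q => by
      rw [← substAlgHom_apply ha.hasSubst, map_sub, substAlgHom_apply, substAlgHom_apply]
    have herr : ∀ n : ℕ, (n : ℕ∞) ≤ (g - subst a (F n)).order := by
      intro n
      induction n with
      | zero => simp
      | succ n ih =>
        have hc := subst_close ha ih
        have : g - subst a (F (n + 1))
            = -(subst a (g - subst a (F n)) - (g - subst a (F n))) := by
          rw [hFs, ← substAlgHom_apply ha.hasSubst (F n + _), map_add, substAlgHom_apply,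
            substAlgHom_apply]
          ring
        rw [this, order_neg]
        exact hc
    let f : MvPowerSeries σ R := fun d => coeff d (F (degree d + 1))
    have hstab : ∀ n d, degree d < n → coeff d (F n) = coeff d f := by
      intro n
      induction n with
      | zero => intro d hd; omega
      | succ n ih =>
        intro d hd
        by_cases hdn : degree d < n
        · rw [hFs, map_add, coeff_of_lt_order (lt_of_lt_of_le (by exact_mod_cast hdn) (herr n)),
            add_zero, ih d hdn]
        · rw [show n = degree d by omega]; rfl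
    refine ⟨f, ?_⟩
    ext d
    set n := degree d + 1 with hn
    have h1 : (n : ℕ∞) ≤ (f - F n).order := le_order fun e he => by
      rw [map_sub, hstab n e (by exact_mod_cast he), sub_self]
    have h2 := subst_close ha h1
    have h3 : (n : ℕ∞) ≤ (subst a f - g).order := by
      have e : subst a f - g
          = (subst a (f - F n) - (f - F n)) + (f - F n) - (g - subst a (F n)) := by
        rw [hsub]; ring
      rw [e]
      exact le_order_sub (le_order_sum' ((Nat.cast_le.2 n.le_succ).trans h2) h1) (herr n)
    have := coeff_of_lt_order (f := subst a f - g) (d := d)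
      (lt_of_lt_of_le (by exact_mod_cast Nat.lt_succ_self _) h3)
    rwa [map_sub, sub_eq_zero] at this

omit ha

/-- The substitution `X i ↦ X i * W i`, `W i` units, is an automorphism. -/
theorem exists_equiv_mul_units (W : σ → MvPowerSeries σ R) (hW : ∀ i, IsUnit (constantCoeff (W i))) :
    ∃ ψ : MvPowerSeries σ R ≃ₐ[R] MvPowerSeries σ R, (∀ i, ψ (X i) = X i * W i) ∧
      ∀ f, ψ f = subst (fun i => X i * W i) f := by
  classical
  choose c hc using hW
  let a : σ → MvPowerSeries σ R := fun i => X i * (C (↑(c i)⁻¹ : R) * W i)
  have ha : Tangent a := by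
    intro i
    have e : a i - X i = X i * (C (↑(c i)⁻¹ : R) * W i - 1) := by simp only [a]; ring
    rw [e]
    refine le_trans ?_ le_order_mul
    rw [← one_add_one_eq_two]
    refine add_le_add (one_le_order_X i) (one_le_order_iff_constCoeff_eq_zero.2 ?_)
    rw [map_sub, map_mul, constantCoeff_C, map_one, ← hc i, Units.inv_mul, sub_self]
  have hb : ∀ v : σ → R, HasSubst (fun i => C (v i) * X i : σ → MvPowerSeries σ R) := fun v =>
    hasSubst_of_constantCoeff_zero fun i => by simp
  let D : (σ → R) → (MvPowerSeries σ R →ₐ[R] MvPowerSeries σ R) := fun v => substAlgHom (hb v)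
  have hD : Function.Bijective (D fun i => (c i : R)) := by
    have key : ∀ v w : σ → R, (∀ i, v i * w i = 1) → ∀ f, D v (D w f) = f := by
      intro v w hvw f
      simp only [D, substAlgHom_apply]
      rw [subst_comp_subst_apply (hb w) (hb v)]
      have : (fun s => subst (fun i => C (v i) * X i) (C (w s) * X s : MvPowerSeries σ R))
          = (X : σ → MvPowerSeries σ R) := by
        funext s
        rw [← substAlgHom_apply (hb v), map_mul, substAlgHom_X,
          show (C (w s) : MvPowerSeries σ R) = algebraMap R _ (w s) from rfl, AlgHom.commutes,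
          show algebraMap R (MvPowerSeries σ R) (w s) = C (w s) from rfl, ← mul_assoc, ← map_mul, mul_comm (w s), hvw, map_one, one_mul]
      rw [this, subst_self]; rfl
    refine Function.bijective_iff_has_inverse.2 ⟨D fun i => (↑(c i)⁻¹ : R), ?_, ?_⟩
    · exact fun f => key (fun i => (↑(c i)⁻¹ : R)) (fun i => (c i : R)) (fun i => (c i).inv_mul) f
    · exact fun f => key (fun i => (c i : R)) (fun i => (↑(c i)⁻¹ : R)) (fun i => (c i).mul_inv) f
  have hA : Function.Bijective (substAlgHom (R := R) ha.hasSubst) := by
    rw [coe_substAlgHom]; exact subst_bijective ha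
  let ψ := (AlgEquiv.ofBijective _ hD).trans (AlgEquiv.ofBijective _ hA)
  have hX : ∀ i, ψ (X i) = X i * W i := by
    intro i
    simp only [ψ, AlgEquiv.trans_apply, AlgEquiv.coe_ofBijective, D, substAlgHom_X, map_mul]
    rw [show substAlgHom (R := R) ha.hasSubst (C (c i : R)) = C (c i : R) by
      exact AlgHom.commutes (substAlgHom (R := R) ha.hasSubst) (c i : R)]
    simp only [a]
    rw [mul_left_comm, ← mul_assoc (C _) (C _), ← map_mul, Units.mul_inv, map_one, one_mul]
  refine ⟨ψ, hX, fun f => ?_⟩
  have e : (fun i => X i * W i) = fun i => subst a (C (c i : R) * X i : MvPowerSeries σ R) := by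
    funext i
    rw [← hX i, ← substAlgHom_apply (R := R) ha.hasSubst]
    simp only [ψ, AlgEquiv.trans_apply, AlgEquiv.coe_ofBijective, D, substAlgHom_X]
  rw [e, ← subst_comp_subst_apply (hb fun i => (c i : R)) ha.hasSubst]
  simp only [ψ, AlgEquiv.trans_apply, AlgEquiv.coe_ofBijective, D, substAlgHom_apply]

/-- Cube roots of series with constant term `1`, when `3` is a unit. -/
theorem exists_cube_root (h3 : IsUnit (3 : R)) (u : MvPowerSeries σ R) (hu : constantCoeff u = 1) :
    ∃ v : MvPowerSeries σ R, v ^ 3 = u ∧ constantCoeff v = 1 := by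
  classical
  let W : Unit → MvPowerSeries Unit R := fun i => C 3 + C 3 * X i + X i ^ 2
  obtain ⟨ψ, hψ, hψa⟩ := exists_equiv_mul_units W (fun i => by simpa [W] using h3)
  let a : Unit → MvPowerSeries Unit R := fun i => X i * W i
  have ha0 : ∀ i, constantCoeff (a i) = 0 := fun i => by simp [a]
  have ha : HasSubst a := hasSubst_of_constantCoeff_zero ha0
  -- `w` is the compositional inverse of `y ↦ (1 + y) ^ 3 - 1`
  set w := ψ.symm (X ()) with hwdef
  have hw : subst a w = X () := by rw [← hψa, hwdef, AlgEquiv.apply_symm_apply]
  have hw0 : constantCoeff w = 0 := by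
    set c := constantCoeff w with hc
    have h1 : constantCoeff (subst a (w - C c)) = 0 :=
      constantCoeff_subst_eq_zero ha ha0 (by simp [hc])
    rw [← substAlgHom_apply ha, map_sub, substAlgHom_apply,
      show (C c : MvPowerSeries Unit R) = algebraMap R _ c from rfl, AlgHom.commutes, hw, map_sub,
      constantCoeff_X, zero_sub, neg_eq_zero] at h1
    rw [MvPowerSeries.algebraMap_apply, constantCoeff_C] at h1
    exact h1
  let b : Unit → MvPowerSeries Unit R := fun _ => w
  have hb : HasSubst b := hasSubst_of_constantCoeff_zero fun _ => hw0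
  have hsymm : subst b (a ()) = X () := by
    apply ψ.injective
    rw [hψa, subst_comp_subst_apply hb ha]
    have : (fun s => subst a (b s)) = (X : Unit → MvPowerSeries Unit R) := by
      funext s; simp [b, hw]
    rw [this, subst_self, id_eq, hψ]
  have hcube : (1 + w) ^ 3 = 1 + X () := by
    rw [← hsymm, ← substAlgHom_apply hb]
    simp only [a, W, map_mul, map_add, map_pow, substAlgHom_X]
    rw [show (C (3 : R) : MvPowerSeries Unit R) = algebraMap R _ 3 from rfl, AlgHom.commutes, map_ofNat]
    simp only [b]
    ring
  let g : Unit → MvPowerSeries σ R := fun _ => u - 1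
  have hg0 : ∀ i, constantCoeff (g i) = 0 := fun _ => by simp [g, hu]
  have hg : HasSubst g := hasSubst_of_constantCoeff_zero hg0
  refine ⟨1 + subst g w, ?_, ?_⟩
  · have h := congrArg (substAlgHom (R := R) hg) hcube
    rw [map_pow, map_add, map_add, map_one, substAlgHom_X, substAlgHom_apply] at h
    rw [h]
    simp [g]
  · rw [map_add, constantCoeff_subst_eq_zero hg hg0 hw0, map_one, add_zero]

end Groth.Agent.PSAutoH28
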